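import Mathlib
import Cfsg.Agent.Lib.CIT.AppTI
import Cfsg.Agent.Lib.Frob.Thompson

/-!
Solvable groups with disconnected prime graph.
-/

set_option autoImplicit false
set_option linter.unusedSectionVars false
set_option linter.style.haveILetI false

namespace CfsgLib.FG3

open Cfsg Subgroup CIT.App
open scoped commutatorElement IsMulCommutative Pointwise

variable {G : Type*} [Group G] [Finite G]

theorem exists_frob {K : Subgroup G} [hn : K.Normal] (hK : K ≠ ⊥) (hK' : K ≠ ⊤)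
    (h : ∀ y ∈ K, y ≠ 1 → centralizer ({y} : Set G) ≤ K) :
    ∃ H : Subgroup G, IsFrobeniusComplement H ∧ frobeniusKernel H = K ∧ IsComplement' K H := by
  obtain ⟨H, hH⟩ := exists_frob_of_centralizer_le hK hK' h
  obtain ⟨N, h1, _, h2, h3, h4⟩ := Frob.exists_kernel_fpf hH
  obtain rfl : N = K := by
    rcases Frob.le_or_le_of_normal_of_fpf (N := K) h2 h4 with e | e
    · obtain ⟨⟨z, hz, hzc⟩, hz1⟩ := ne_bot_iff_exists_ne_one.1 (Core.inf_centralizer_ne_bot_of_isNilpotent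
        (hK := Frob.isNilpotent_kernel le_normalizer_of_normal hH.1 h4) e le_normalizer_of_normal hK)
      exact le_antisymm (fun n hn => h z hz (fun e => hz1 (Subtype.ext e))
        (mem_centralizer_singleton_iff.2 (hzc n hn))) e
    · haveI := Frob.isNilpotent_of_centralizer_le hK' h
      obtain ⟨⟨z, hz, hzc⟩, hz1⟩ := ne_bot_iff_exists_ne_one.1 (Core.inf_centralizer_ne_bot_of_isNilpotent
        e le_normalizer_of_normal h3)
      exact le_antisymm e fun n hn => Frob.centralizer_le_of_fpf h2 h4 hz (fun e => hz1 (Subtype.ext e))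
        (mem_centralizer_singleton_iff.2 (hzc n hn))
  exact ⟨H, hH, h1.symm, h2⟩

theorem normal_zpowers_of_pqCond {K : Subgroup G} [hn : K.Normal] (hK : Group.IsNilpotent K) (h : Frob.PQCond K)
    {x : G} (hx : x ∈ K) (hp : (orderOf x).Prime) : (zpowers x).Normal := by
  haveI := Fact.mk hp
  haveI := Core.map_pCore_normal (p := orderOf x) K
  obtain ⟨z, ⟨hz, hzc⟩, hz1⟩ := Core.exists_mem_orderOf_eq_of_isPGroup
    ((Core.isPGroup_map_pCore (p := orderOf x) K).to_le inf_le_left) (Core.inf_centralizer_ne_bot_of_isNilpotent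
    (map_subtype_le (pCore (orderOf x) K)) le_normalizer_of_normal fun e => Core.not_dvd_index_pCore_of_isNilpotent (G := K)
      (orderOf x) (by
        rw [(map_eq_bot_iff_of_injective _ K.subtype_injective).1 e, index_bot]; exact K.orderOf_dvd_natCard hx))
  have key : ∀ y ∈ K, orderOf y = orderOf x → zpowers y = zpowers z := fun y hy ho => by
    obtain ⟨-, e⟩ := Frob.pqCond_subgroup_iff.1 h y hy z (map_subtype_le _ hz) (ho ▸ hp) (hz1 ▸ hp)
      (by rw [← hzc y hy, mul_inv_cancel_right]; exact mem_zpowers y)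
    exact (eq_of_le_of_card_ge (zpowers_le.2 (e (ho.trans hz1.symm)))
      (by rw [Nat.card_zpowers, Nat.card_zpowers, ho, hz1])).symm
  refine ⟨fun y hy g => ?_⟩
  obtain ⟨k, rfl⟩ := mem_zpowers_iff.1 hy
  rw [← conj_zpow, key x hx rfl, ← key _ (hn.conj_mem x hx g) (StrEmb.orderOf_conj g x)]
  exact zpow_mem_zpowers _ k

/-- `n` is an `A`-number -/
abbrev PN (A : Set ℕ) (n : ℕ) : Prop := ∀ q : ℕ, q.Prime → q ∣ n → q ∈ A

theorem PN.eq_one {A : Set ℕ} {n : ℕ} (h : PN A n) (h' : PN Aᶜ n) : n = 1 :=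
  by_contra fun e => (Nat.exists_prime_and_dvd e).elim fun q hq => h' q hq.1 hq.2 (h q hq.1 hq.2)

theorem PN.of_dvd {A : Set ℕ} {m n : ℕ} (h : PN A n) (hd : m ∣ n) : PN A m := fun q hq e => h q hq (e.trans hd)

/-- no element has order divisible by a prime in `A` and a prime outside `A` -/
def Disc (G : Type*) [Group G] (A : Set ℕ) : Prop := ∀ a ∈ A, ∀ b ∉ A, a.Prime → b.Prime → ¬ HasOrd G (a * b)

theorem Disc.compl {A : Set ℕ} (h : Disc G A) : Disc G Aᶜ := fun a ha b hb h1 h2 =>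
  mul_comm b a ▸ h b (not_not.1 hb) a ha h2 h1

theorem Disc.quot {A : Set ℕ} (h : Disc G A) (N : Subgroup G) [N.Normal] : Disc (G ⧸ N) A :=
  fun a ha b hb h1 h2 e => h a ha b hb h1 h2 e.of_quotient

theorem Disc.cent {A : Set ℕ} (h : Disc G A) {x y : G} (hx : PN A (orderOf x)) (h1 : x ≠ 1) (hc : Commute x y) :
    PN A (orderOf y) := fun q hq hd => by_contra fun e => by
  obtain ⟨p, hp, hpx⟩ := Nat.exists_prime_and_dvd (orderOf_eq_one_iff.not.2 h1)
  exact h p (hx p hp hpx) q e hp hq (hasOrd_mul_of_commute hc hpx hd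
    ((Nat.coprime_primes hp hq).2 fun e' => e (e' ▸ hx p hp hpx)))

theorem Disc.two_frob [Group.IsSolvable G] {A : Set ℕ} (h : Disc G A) (h0 : Core.ordCore (PN A) G ≠ ⊥) {b : ℕ}
    (hb : b ∉ A) (hbp : b.Prime) (hbG : b ∣ Nat.card G) : (∃ C : Subgroup G, IsFrobeniusComplement C) ∨
    (∃ (H K : Subgroup G) (_ : H.Normal), K.Normal ∧ H < K ∧
      (∃ C : Subgroup K, IsFrobeniusComplement C ∧ frobeniusKernel C = (H.subgroupOf K : Set K)) ∧
      (∃ C : Subgroup (G ⧸ H), IsFrobeniusComplement C ∧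
        frobeniusKernel C = (K.map (QuotientGroup.mk' H) : Set (G ⧸ H)))) := by
  haveI := Core.ordCore_normal (PN A) G
  have h1 := (Core.isOrdClass_pi A).card_ordCore G
  have h2 := (Core.isOrdClass_pi A).ordCore_quotient G
  generalize Core.ordCore (PN A) G = H at *
  have hc : ∀ y ∈ H, y ≠ 1 → ∀ g ∈ centralizer {y}, PN Aᶜ (orderOf (g : G ⧸ H)) → g ∈ H := fun y hy y1 g hg e =>
    (QuotientGroup.eq_one_iff g).1 (orderOf_eq_one_iff.1 (((h.cent (PN.of_dvd h1 (H.orderOf_dvd_natCard hy)) y1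
      (mem_centralizer_singleton_iff.1 hg).symm).of_dvd (orderOf_map_dvd (QuotientGroup.mk' H) g)).eq_one e))
  have hH : H ≠ ⊤ := fun e => hb (h1 b hbp (by rwa [e, card_top]))
  by_cases hA : PN Aᶜ (Nat.card (G ⧸ H))
  · exact Or.inl (exists_frob_of_centralizer_le h0 hH fun y hy y1 g hg =>
      hc y hy y1 g hg (hA.of_dvd (_root_.orderOf_dvd_natCard _)))
  right
  haveI hn := Core.ordCore_normal (PN Aᶜ) (G ⧸ H)
  have h3 := (Core.isOrdClass_pi Aᶜ).card_ordCore (G ⧸ H)
  have h4 : ∀ (N : Subgroup (G ⧸ H)) [N.Normal], PN Aᶜ (Nat.card N) → N ≤ Core.ordCore (PN Aᶜ) (G ⧸ H) :=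
    fun N _ e => Core.le_ordCore e
  generalize Core.ordCore (PN Aᶜ) (G ⧸ H) = L at *
  have hL : L ≠ ⊥ := by
    haveI := QuotientGroup.nontrivial_iff.2 hH
    obtain ⟨r, N, hr, _, hN, hE, -⟩ := Core.exists_elementaryAbelian_minimal_normal (G ⧸ H)
    haveI := Fact.mk hr
    obtain ⟨n, hn⟩ := (Core.isElementaryAbelian_isPGroup hE).exists_card_eq
    have key : ∀ B : Set ℕ, r ∈ B → PN B (Nat.card N) := fun B hB q hq e =>
      (Nat.prime_dvd_prime_iff_eq hq hr).1 (hq.dvd_of_dvd_pow (hn ▸ e)) ▸ hB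
    by_cases e : r ∈ A
    · exact (hN (le_bot_iff.1 (h2 ▸ Core.le_ordCore (key A e)))).elim
    · exact fun e' => hN (le_bot_iff.1 (e' ▸ h4 N (key _ e)))
  have hm := map_comap_eq_self_of_surjective (QuotientGroup.mk'_surjective H) L
  have hle : H ≤ L.comap (QuotientGroup.mk' H) := (QuotientGroup.ker_mk' H).ge.trans (ker_le_comap _ _)
  have hlt : ¬ L.comap (QuotientGroup.mk' H) ≤ H := fun e => hL (by
    rwa [← hm, Subgroup.map_eq_bot_iff, QuotientGroup.ker_mk'])
  obtain ⟨C, hC, hC1, hC2⟩ := exists_frob (K := H.subgroupOf (L.comap (QuotientGroup.mk' H)))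
    (fun e => h0 ((subgroupOf_eq_bot.1 e).eq_bot_of_le hle)) (fun e => hlt (subgroupOf_eq_top.1 e))
    fun y hy y1 g hg => hc y hy (fun e => y1 (Subtype.ext e)) g (mem_centralizer_singleton_iff.2
      (congrArg Subtype.val (mem_centralizer_singleton_iff.1 hg))) (PN.of_dvd h3 (L.orderOf_dvd_natCard g.2))
  refine ⟨H, _, inferInstance, inferInstance, lt_of_le_not_ge hle hlt, ⟨C, hC, hC1⟩, ?_⟩
  have hPQ : Frob.PQCond L := by
    let f : C →* L := ((QuotientGroup.mk' H).comp ((L.comap (QuotientGroup.mk' H)).subtype.comp C.subtype)).codRestrict L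
      fun x => x.1.2
    refine (Frob.pqCond_of_frob hC).of_injective (MulEquiv.ofBijective f ⟨(injective_iff_map_eq_one f).2 fun x hx =>
      Subtype.ext (Frob.eq_one_of_mem_of_isComplement' hC2 ((QuotientGroup.eq_one_iff (x.1.1 : G)).1
        (congrArg Subtype.val hx)) x.2), fun l => ?_⟩).symm.toMonoidHom (MulEquiv.injective _)
    obtain ⟨g, hg⟩ := QuotientGroup.mk_surjective l.1
    obtain ⟨k, hk, c, hc, e⟩ := Frob.exists_mul_eq_of_isComplement' hC2 ⟨g, show (g : G ⧸ H) ∈ L from hg ▸ l.2⟩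
    refine ⟨⟨c, hc⟩, Subtype.ext (Eq.trans ?_ hg)⟩
    rw [← show (k : G) * c = g from congrArg Subtype.val e, QuotientGroup.mk_mul, (QuotientGroup.eq_one_iff k.1).2 hk, one_mul]
    rfl
  simp only [not_forall, Set.mem_compl_iff, not_not] at hA
  obtain ⟨q, hq, hqd, hqA⟩ := hA
  obtain ⟨a, ha⟩ := hasOrd_of_prime_dvd hq hqd
  have hL' : ∀ x ∈ L, x ≠ 1 → ∀ g, Commute x g → PN Aᶜ (orderOf g) := fun x hx x1 g =>
    (h.quot H).compl.cent (PN.of_dvd h3 (L.orderOf_dvd_natCard hx)) x1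
  have hN := Frob.isNilpotent_of_fpf (K := L) (a := a) (le_normalizer_of_normal (mem_top a))
    (Frob.fpf_iff.2 fun x hx e => by_contra fun x1 => hL' x hx x1 a e q hq ha.symm.dvd hqA) hq
    (ha ▸ pow_orderOf_eq_one a ▸ one_mem _)
  rw [hm]
  refine (exists_frob hL (fun e => h3 q hq (by rwa [e, card_top]) hqA) fun y hy y1 g hg => ?_).imp fun C e => ⟨e.1, e.2.1⟩
  obtain ⟨r, hr, hd⟩ := Nat.exists_prime_and_dvd (orderOf_eq_one_iff.not.2 y1)
  obtain ⟨n, hn⟩ := exists_pow_orderOf_eq hd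
  haveI := normal_zpowers_of_pqCond hN hPQ (pow_mem hy n) (hn ▸ hr)
  refine h4 (centralizer (zpowers (y ^ n))) (fun s hs e => ?_) ?_
  · obtain ⟨w, hw, hws⟩ := Core.exists_mem_orderOf_eq_of_dvd_card hs e
    exact hL' _ (pow_mem hy n) (fun e => hr.one_lt.ne' (by rw [← hn, e, orderOf_one])) w (hw _ (mem_zpowers _)) s hs
      hws.symm.dvd
  · rw [Core.centralizer_zpowers, mem_centralizer_singleton_iff]
    exact (show Commute g y from mem_centralizer_singleton_iff.1 hg).pow_right n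

end CfsgLib.FG3
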